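import Mathlib
import Groth.Agent.Lib.Helper5.QRBC.A
import Groth.Agent.Lib.Helper5.GrGen.A

set_option autoImplicit false
universe u v

open TensorProduct

namespace Groth.Agent.Lib.Helper5.FibIso

section localcase
variable {R' : Type u} [CommRing R'] [IsLocalRing R']
    {A' B' : Type u} [CommRing A'] [CommRing B'] [Algebra R' A'] [Algebra R' B']
    [Module.Finite R' A'] [Module.Flat R' A'] [Algebra.FiniteType R' B']
    (f' : B' →ₐ[R'] A') (hf' : Function.Surjective f')

include hf' in
theorem ker_fg : (RingHom.ker f'.toRingHom).FG := by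
  haveI : Module.Free R' A' := Module.free_of_flat_of_isLocalRing
  haveI : Module.FinitePresentation R' A' := Module.finitePresentation_of_projective R' A'
  haveI : Algebra.FinitePresentation R' A' := inferInstance
  obtain ⟨n, g, hg⟩ := Algebra.FiniteType.iff_quotient_mvPolynomial''.1
    (inferInstance : Algebra.FiniteType R' B')
  have h1 := Algebra.FinitePresentation.ker_fg_of_mvPolynomial (f'.comp g) (hf'.comp hg)
  have h2 : RingHom.ker f'.toRingHom =
      Ideal.map g.toRingHom (RingHom.ker (f'.comp g).toRingHom) := by
    have : RingHom.ker (f'.comp g).toRingHom = Ideal.comap g.toRingHom (RingHom.ker f'.toRingHom) := by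
      ext x
      simp [RingHom.mem_ker]
    rw [this]
    exact (Ideal.map_comap_of_surjective g.toRingHom hg _).symm
  rw [h2]
  exact h1.map _

include hf' in
theorem exists_kill
    (hinj : Function.Injective
      (LinearMap.lTensor (IsLocalRing.ResidueField R') f'.toLinearMap)) :
    ∃ b' : B', b' - 1 ∈ (IsLocalRing.maximalIdeal R').map (algebraMap R' B') ∧
      ∀ x ∈ RingHom.ker f'.toRingHom, b' * x = 0 := by
  set m' := IsLocalRing.maximalIdeal R' with hm'
  let J' : Submodule R' B' := LinearMap.ker f'.toLinearMap
  have hex : Function.Exact J'.subtype f'.toLinearMap :=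
    LinearMap.exact_subtype_ker_map f'.toLinearMap
  have h1 : Function.Injective (LinearMap.lTensor (IsLocalRing.ResidueField R') J'.subtype) :=
    Groth.Agent.Lib.Helper5.QRBC.lTensor_injective_of_flat_coker J'.subtype f'.toLinearMap
      Subtype.val_injective hf' hex _
  have h2 : ∀ z : IsLocalRing.ResidueField R' ⊗[R'] J', z = 0 := by
    intro z
    apply h1
    apply hinj
    rw [map_zero, map_zero, ← LinearMap.comp_apply, ← LinearMap.lTensor_comp]
    have : f'.toLinearMap ∘ₗ J'.subtype = 0 := by
      ext y
      exact y.2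
    rw [this, LinearMap.lTensor_zero, LinearMap.zero_apply]
  have h3 : (m' • ⊤ : Submodule R' J') = ⊤ := by
    rw [← Submodule.Quotient.subsingleton_iff]
    have e := TensorProduct.quotTensorEquivQuotSMul J' m'
    refine ⟨fun a b => ?_⟩
    apply e.symm.injective
    exact (h2 _).trans (h2 _).symm
  have h4 : RingHom.ker f'.toRingHom ≤ m'.map (algebraMap R' B') * RingHom.ker f'.toRingHom := by
    intro x hx
    have hxJ : x ∈ J' := hx
    have h5 : (⟨x, hxJ⟩ : J') ∈ (m' • ⊤ : Submodule R' J') := by rw [h3]; trivial
    have key : ∀ y : J', y ∈ (m' • ⊤ : Submodule R' J') →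
        (y : B') ∈ m'.map (algebraMap R' B') * RingHom.ker f'.toRingHom := by
      intro y hy
      refine Submodule.smul_induction_on hy ?_ ?_
      · intro r hr w _
        rw [Submodule.coe_smul, Algebra.smul_def]
        have hw : (w : B') ∈ RingHom.ker f'.toRingHom := w.2
        exact Ideal.mul_mem_mul (Ideal.mem_map_of_mem (algebraMap R' B') hr) hw
      · intro a b ha hb
        rw [Submodule.coe_add]
        exact Submodule.add_mem _ ha hb
    exact key _ h5
  obtain ⟨r, hr1, hr2⟩ := Submodule.exists_sub_one_mem_and_smul_eq_zero_of_fg_of_le_smul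
    (m'.map (algebraMap R' B')) (RingHom.ker f'.toRingHom) (ker_fg f' hf')
    (by rw [smul_eq_mul]; exact h4)
  exact ⟨r, hr1, fun x hx => hr2 x hx⟩

end localcase

end Groth.Agent.Lib.Helper5.FibIso
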