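import Mathlib
import Groth.Agent.Lib.Helper5.FibIso.A

set_option autoImplicit false
universe u v

open TensorProduct

namespace Groth.Agent.Lib.Helper5.FibIso

section glob
variable {R A B : Type u} [CommRing R] [CommRing A] [CommRing B] [Algebra R A] [Algebra R B]

theorem surjective_of_hmax [Module.Finite R A] (f : B →ₐ[R] A)
    (hmax : ∀ (m : Ideal R) [m.IsMaximal],
      Function.Surjective (LinearMap.lTensor m.ResidueField f.toLinearMap)) :
    Function.Surjective f := by
  let N : Submodule R A := LinearMap.range f.toLinearMap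
  have hsub : Subsingleton (A ⧸ N) := by
    apply Groth.Agent.Lib.Helper5.GrGen.subsingleton_of_forall_maximal (A := R)
    intro m _
    have hs : Function.Surjective (LinearMap.lTensor m.ResidueField N.mkQ) :=
      LinearMap.lTensor_surjective _ (Submodule.mkQ_surjective N)
    have h0 : ∀ x : m.ResidueField ⊗[R] (A ⧸ N), x = 0 := by
      intro x
      obtain ⟨a, rfl⟩ := hs x
      obtain ⟨b, rfl⟩ := hmax m a
      rw [← LinearMap.comp_apply, ← LinearMap.lTensor_comp]
      have : N.mkQ ∘ₗ f.toLinearMap = 0 := by
        ext y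
        simp only [LinearMap.comp_apply, Submodule.mkQ_apply, LinearMap.zero_apply]
        rw [Submodule.Quotient.mk_eq_zero]
        exact ⟨y, rfl⟩
      rw [this, LinearMap.lTensor_zero, LinearMap.zero_apply]
    exact ⟨fun a b => (h0 a).trans (h0 b).symm⟩
  rw [Submodule.Quotient.subsingleton_iff] at hsub
  intro a
  have : a ∈ N := by rw [hsub]; trivial
  obtain ⟨b, hb⟩ := this
  exact ⟨b, hb⟩

theorem fibre_injective [Module.Finite R A] (f : B →ₐ[R] A) (hf : Function.Surjective f)
    (p : PrimeSpectrum R)
    (hrank : Module.rank p.asIdeal.ResidueField (p.asIdeal.ResidueField ⊗[R] B) =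
        Module.rank p.asIdeal.ResidueField (p.asIdeal.ResidueField ⊗[R] A)) :
    Function.Injective (LinearMap.lTensor p.asIdeal.ResidueField f.toLinearMap) := by
  set κ := p.asIdeal.ResidueField
  have hs : Function.Surjective (f.toLinearMap.baseChange κ) := by
    have := LinearMap.lTensor_surjective κ (g := f.toLinearMap) hf
    exact this
  haveI : Module.Finite κ (κ ⊗[R] B) := by
    rw [← Module.rank_lt_aleph0_iff, hrank]
    exact Module.rank_lt_aleph0 κ (κ ⊗[R] A)
  have hfr : Module.finrank κ (κ ⊗[R] B) = Module.finrank κ (κ ⊗[R] A) :=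
    congrArg Cardinal.toNat hrank
  have hi := (LinearMap.injective_iff_surjective_of_finrank_eq_finrank hfr
    (f := f.toLinearMap.baseChange κ)).2 hs
  exact hi

section loc
variable (p : Ideal R) [p.IsPrime]

/-- the localized algebra map. -/
noncomputable abbrev locMap (f : B →ₐ[R] A) :
    (Localization.AtPrime p ⊗[R] B) →ₐ[Localization.AtPrime p] (Localization.AtPrime p ⊗[R] A) :=
  Algebra.TensorProduct.map (AlgHom.id (Localization.AtPrime p) (Localization.AtPrime p)) f

theorem locMap_surjective (f : B →ₐ[R] A) (hf : Function.Surjective f) :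
    Function.Surjective (locMap p f) := by
  have := LinearMap.lTensor_surjective (Localization.AtPrime p) (g := f.toLinearMap) hf
  have heq : ∀ x, locMap p f x = LinearMap.lTensor (Localization.AtPrime p) f.toLinearMap x := by
    intro x
    induction x using TensorProduct.induction_on with
    | zero => simp
    | tmul a b => simp [locMap]
    | add a b ha hb => rw [map_add, map_add, ha, hb]
  intro y
  obtain ⟨x, hx⟩ := this y
  exact ⟨x, (heq x).trans hx⟩

theorem locMap_fibre_injective (f : B →ₐ[R] A)
    (hinj : Function.Injective (LinearMap.lTensor p.ResidueField f.toLinearMap)) :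
    Function.Injective
      (LinearMap.lTensor (IsLocalRing.ResidueField (Localization.AtPrime p))
        (locMap p f).toLinearMap) := by
  let R' := Localization.AtPrime p
  let κ := IsLocalRing.ResidueField R'
  let eB := TensorProduct.AlgebraTensorModule.cancelBaseChange R R' R' κ B
  let eA := TensorProduct.AlgebraTensorModule.cancelBaseChange R R' R' κ A
  have hnat : ∀ z : κ ⊗[R'] (R' ⊗[R] B),
      eA (LinearMap.lTensor κ (locMap p f).toLinearMap z) =
        LinearMap.lTensor κ f.toLinearMap (eB z) := by
    intro z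
    induction z using TensorProduct.induction_on with
    | zero => simp
    | tmul c w =>
      induction w using TensorProduct.induction_on with
      | zero => simp
      | tmul r b =>
        rw [LinearMap.lTensor_tmul]
        have h1 : (locMap p f).toLinearMap (r ⊗ₜ[R] b) = r ⊗ₜ[R] f b := by
          simp [locMap]
        rw [h1]
        simp only [eA, eB, TensorProduct.AlgebraTensorModule.cancelBaseChange_tmul,
          LinearMap.lTensor_tmul, AlgHom.toLinearMap_apply]
        exact TensorProduct.AlgebraTensorModule.cancelBaseChange_tmul R R' R' c (f b) r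
      | add a b ha hb =>
        rw [TensorProduct.tmul_add, map_add, map_add, map_add, map_add, ha, hb]
    | add a b ha hb => rw [map_add, map_add, map_add, map_add, ha, hb]
  rw [injective_iff_map_eq_zero]
  intro z hz
  have h1 := hnat z
  rw [hz, map_zero] at h1
  have h2 : eB z = 0 := by
    apply hinj
    rw [map_zero]
    exact h1.symm
  exact (LinearEquiv.map_eq_zero_iff eB).1 h2

end loc

theorem eq_zero_of_mem_ker [Module.Finite R A] [Module.Flat R A] [Algebra.FiniteType R B]
    (f : B →ₐ[R] A) (hf : Function.Surjective f)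
    (hfib : ∀ p : PrimeSpectrum R,
      Function.Injective (LinearMap.lTensor p.asIdeal.ResidueField f.toLinearMap))
    (x : B) (hx : f x = 0) : x = 0 := by
  by_contra hne
  let 𝔞 : Ideal B := LinearMap.ker (LinearMap.toSpanSingleton B B x)
  have h𝔞 : ∀ t : B, t ∈ 𝔞 ↔ t * x = 0 := by
    intro t
    simp [𝔞, LinearMap.mem_ker, LinearMap.toSpanSingleton_apply]
  have hne_top : 𝔞 ≠ ⊤ := by
    intro h
    have : (1 : B) ∈ 𝔞 := by rw [h]; trivial
    rw [h𝔞, one_mul] at this
    exact hne this
  obtain ⟨q, hq, h𝔞q⟩ := Ideal.exists_le_maximal 𝔞 hne_top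
  haveI : q.IsPrime := hq.isPrime
  let p : Ideal R := q.comap (algebraMap R B)
  haveI hp : p.IsPrime := Ideal.IsPrime.comap _
  let R' := Localization.AtPrime p
  let f' := locMap p f
  have hf' := locMap_surjective p f hf
  have hinj' := locMap_fibre_injective p f (hfib ⟨p, hp⟩)
  obtain ⟨b', hb'1, hb'2⟩ := exists_kill f' hf' hinj'
  have hxker : (1 : R') ⊗ₜ[R] x ∈ RingHom.ker f'.toRingHom := by
    rw [RingHom.mem_ker]
    change f' ((1 : R') ⊗ₜ[R] x) = 0
    simp [f', locMap, hx]
  have hkill := hb'2 _ hxker
  haveI : IsLocalizedModule p.primeCompl (TensorProduct.mk R R' B 1) :=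
    (isLocalizedModule_iff_isBaseChange p.primeCompl R' _).2 (TensorProduct.isBaseChange R B R')
  obtain ⟨⟨b, σ⟩, hbσ⟩ := IsLocalizedModule.surj p.primeCompl (TensorProduct.mk R R' B 1) b'
  simp only [TensorProduct.mk_apply] at hbσ
  have h1 : (TensorProduct.mk R R' B 1) (b * x) = (TensorProduct.mk R R' B 1) 0 := by
    simp only [TensorProduct.mk_apply, TensorProduct.tmul_zero]
    have : (1 : R') ⊗ₜ[R] (b * x) = ((1 : R') ⊗ₜ[R] b) * ((1 : R') ⊗ₜ[R] x) := by
      rw [Algebra.TensorProduct.tmul_mul_tmul, one_mul]
    rw [this, ← hbσ, smul_mul_assoc, hkill, smul_zero]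
  obtain ⟨c, hc⟩ := IsLocalizedModule.exists_of_eq (S := p.primeCompl) h1
  rw [smul_zero] at hc
  have hcb : (c : R) • b ∈ q := by
    apply h𝔞q
    rw [h𝔞, smul_mul_assoc]
    exact hc
  -- the residue field of `q`
  let K := q.ResidueField
  have hunit : ∀ y : p.primeCompl, IsUnit (Algebra.ofId R K y) := by
    intro y
    apply IsUnit.mk0
    change algebraMap R K y ≠ 0
    rw [IsScalarTower.algebraMap_apply R B K, Ne, Ideal.algebraMap_residueField_eq_zero]
    exact y.2
  let ψ : R' →ₐ[R] K := IsLocalization.liftAlgHom (M := p.primeCompl) (f := Algebra.ofId R K) hunit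
  let φ : R' ⊗[R] B →ₐ[R] K := Algebra.TensorProduct.productMap ψ (IsScalarTower.toAlgHom R B K)
  have hφ1 : ∀ r' : R', φ (algebraMap R' (R' ⊗[R] B) r') = ψ r' := by
    intro r'
    rw [Algebra.TensorProduct.algebraMap_apply]
    simp [φ]
  have hψ0 : IsLocalRing.maximalIdeal R' ≤ RingHom.ker ψ.toRingHom := by
    rw [← Localization.AtPrime.map_eq_maximalIdeal, Ideal.map_le_iff_le_comap]
    intro r hr
    rw [Ideal.mem_comap, RingHom.mem_ker]
    change ψ (algebraMap R R' r) = 0
    rw [AlgHom.commutes, IsScalarTower.algebraMap_apply R B K,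
      Ideal.algebraMap_residueField_eq_zero]
    exact hr
  have hφ0 : (IsLocalRing.maximalIdeal R').map (algebraMap R' (R' ⊗[R] B)) ≤
      RingHom.ker φ.toRingHom := by
    rw [Ideal.map_le_iff_le_comap]
    intro r' hr'
    rw [Ideal.mem_comap, RingHom.mem_ker]
    change φ (algebraMap R' (R' ⊗[R] B) r') = 0
    rw [hφ1]
    exact hψ0 hr'
  have hφb' : φ b' = 1 := by
    have := hφ0 hb'1
    rw [RingHom.mem_ker] at this
    change φ (b' - 1) = 0 at this
    rw [map_sub, map_one, sub_eq_zero] at this
    exact this
  have h2 : φ ((1 : R') ⊗ₜ[R] ((c : R) • b)) = 0 := by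
    simp only [φ, Algebra.TensorProduct.productMap_apply_tmul, map_one, one_mul]
    change algebraMap B K ((c : R) • b) = 0
    rw [Ideal.algebraMap_residueField_eq_zero]
    exact hcb
  have h3 : (1 : R') ⊗ₜ[R] ((c : R) • b) = (c : R) • ((σ : R) • b') := by
    rw [TensorProduct.tmul_smul]
    congr 1
    exact hbσ.symm
  rw [h3, map_smul, map_smul, hφb', Algebra.smul_def, Algebra.smul_def, mul_one] at h2
  have hc0 : algebraMap R K c ≠ 0 := (hunit c).ne_zero
  have hσ0 : algebraMap R K σ ≠ 0 := (hunit σ).ne_zero
  exact mul_ne_zero hc0 hσ0 h2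

theorem main
    [Module.Finite R A] [Module.Flat R A] [Algebra.FiniteType R B]
    (f : B →ₐ[R] A)
    (hrank : ∀ p : PrimeSpectrum R,
      Module.rank p.asIdeal.ResidueField (p.asIdeal.ResidueField ⊗[R] B) =
        Module.rank p.asIdeal.ResidueField (p.asIdeal.ResidueField ⊗[R] A))
    (hmax : ∀ (m : Ideal R) [m.IsMaximal],
      Function.Bijective (LinearMap.lTensor m.ResidueField f.toLinearMap)) :
    Function.Bijective f := by
  have hs : Function.Surjective f := surjective_of_hmax f (fun m _ => (hmax m).2)
  refine ⟨?_, hs⟩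
  rw [injective_iff_map_eq_zero]
  intro x hx
  exact eq_zero_of_mem_ker f hs (fun p => fibre_injective f hs p (hrank p)) x hx

end glob

end Groth.Agent.Lib.Helper5.FibIso
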